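import Mathlib

set_option linter.unusedSectionVars false
set_option linter.unusedVariables false
set_option linter.unusedSimpArgs false
set_option autoImplicit false
set_option maxHeartbeats 400000

noncomputable section

namespace Groth.Agent.Lib.Helper6.K4Wedge

open ExteriorAlgebra

variable {k : Type*} [Field k]

/-- integer cycle vector entries -/
def eZ (i j l a b : Fin 4) : ℤ :=
  ((if a = i ∧ b = j then 1 else 0) + (if a = j ∧ b = l then 1 else 0)
      + (if a = l ∧ b = i then 1 else 0)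
    - (if a = j ∧ b = i then 1 else 0) - (if a = l ∧ b = j then 1 else 0)
    - (if a = i ∧ b = l then 1 else 0))

section

variable (P : Equiv.Perm (Fin 4) → ((Fin 2 → Fin 4 → Fin 4 → k) →ₗ[k] (Fin 2 → Fin 4 → Fin 4 → k)))
    (hP : ∀ (σ : Equiv.Perm (Fin 4)) (f : Fin 2 → Fin 4 → Fin 4 → k) (c : Fin 2) (a b : Fin 4),
      P σ f c a b = f c (σ.symm a) (σ.symm b))
    (z : Fin 2 → Fin 4 → Fin 4 → Fin 4 → (Fin 2 → Fin 4 → Fin 4 → k))
    (hz : ∀ (c : Fin 2) (i j l : Fin 4) (c' : Fin 2) (a b : Fin 4), z c i j l c' a b =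
      if c' = c then
        ((if a = i ∧ b = j then 1 else 0) + (if a = j ∧ b = l then 1 else 0) + (if a = l ∧ b = i then 1 else 0)
          - (if a = j ∧ b = i then 1 else 0) - (if a = l ∧ b = j then 1 else 0) - (if a = i ∧ b = l then 1 else 0))
      else 0)

include hz in
lemma z_eq (c : Fin 2) (i j l : Fin 4) (c' : Fin 2) (a b : Fin 4) :
    z c i j l c' a b = if c' = c then ((eZ i j l a b : ℤ) : k) else 0 := by
  rw [hz]
  by_cases h : c' = c
  · simp only [if_pos h, eZ]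
    push_cast
    rfl
  · simp only [if_neg h]

include hP hz in
lemma P_z (σ : Equiv.Perm (Fin 4)) (c : Fin 2) (i j l : Fin 4) :
    P σ (z c i j l) = z c (σ i) (σ j) (σ l) := by
  funext c' a b
  rw [hP, hz, hz]
  simp only [Equiv.symm_apply_eq]

include hz in
lemma z_rev (c : Fin 2) (i j l : Fin 4) : z c l j i = - z c i j l := by
  funext c' a b
  simp only [Pi.neg_apply]
  rw [hz, hz]
  by_cases h : c' = c
  · simp only [if_pos h]; ring
  · simp only [if_neg h]; simp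

include hz in
lemma z_cyc (c : Fin 2) (i j l : Fin 4) : z c j l i = z c i j l := by
  funext c' a b
  rw [hz, hz]
  by_cases h : c' = c
  · simp only [if_pos h]; ring
  · simp only [if_neg h]

end

section ext

variable {M : Type*} [AddCommGroup M] [Module k M]

lemma ι_swap (x y : M) : ι k x * ι k y = -(ι k y * ι k x) :=
  eq_neg_of_add_eq_zero_left (ι_add_mul_swap x y)

lemma four_swap (x y u w : M) :
    ι k x * ι k y * ι k u * ι k w = ι k u * ι k w * ι k x * ι k y := by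
  have h1 : ι k x * ι k y * ι k u * ι k w = -(ι k x * ι k u * ι k y * ι k w) := by
    calc ι k x * ι k y * ι k u * ι k w = ι k x * (ι k y * ι k u) * ι k w := by noncomm_ring
      _ = ι k x * (-(ι k u * ι k y)) * ι k w := by rw [ι_swap y u]
      _ = _ := by noncomm_ring
  have h2 : ι k x * ι k u * ι k y * ι k w = -(ι k u * ι k x * ι k y * ι k w) := by
    rw [ι_swap x u]; noncomm_ring
  have h3 : ι k u * ι k x * ι k y * ι k w = -(ι k u * ι k x * ι k w * ι k y) := by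
    calc ι k u * ι k x * ι k y * ι k w = ι k u * ι k x * (ι k y * ι k w) := by noncomm_ring
      _ = ι k u * ι k x * (-(ι k w * ι k y)) := by rw [ι_swap y w]
      _ = _ := by noncomm_ring
  have h4 : ι k u * ι k x * ι k w * ι k y = -(ι k u * ι k w * ι k x * ι k y) := by
    calc ι k u * ι k x * ι k w * ι k y = ι k u * (ι k x * ι k w) * ι k y := by noncomm_ring
      _ = ι k u * (-(ι k w * ι k x)) * ι k y := by rw [ι_swap x w]
      _ = _ := by noncomm_ring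
  rw [h1, h2, h3, h4]
  simp

end ext

/-- coordinate functional. -/
def ell : (Fin 2 → Fin 4 → Fin 4 → k) →ₗ[k] (Fin 4 → k) where
  toFun f := ![f 0 1 2, f 0 2 3, f 1 1 2, f 1 2 3]
  map_add' f g := by
    ext i; fin_cases i <;> rfl
  map_smul' c f := by
    ext i; fin_cases i <;> rfl

/-- the family of alternating maps. -/
def gfam : ∀ i : ℕ, (Fin 2 → Fin 4 → Fin 4 → k) [⋀^Fin i]→ₗ[k] k := fun i =>
  if h : i = 4 then h ▸ ((Matrix.detRowAlternating (n := Fin 4) (R := k)).compLinearMap ell) else 0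

/-- the functional on the exterior algebra. -/
def Lam : ExteriorAlgebra k (Fin 2 → Fin 4 → Fin 4 → k) →ₗ[k] k := liftAlternating gfam

lemma Lam_four (m1 m2 m3 m4 : Fin 2 → Fin 4 → Fin 4 → k) :
    Lam (ι k m1 * ι k m2 * ι k m3 * ι k m4) =
      Matrix.det (Matrix.of ![ell m1, ell m2, ell m3, ell m4]) := by
  have h : ι k m1 * ι k m2 * ι k m3 * ι k m4 = ιMulti k 4 ![m1, m2, m3, m4] := by
    rw [ιMulti_apply]
    simp [List.ofFn_succ, mul_assoc]
  rw [h, Lam, liftAlternating_apply_ιMulti]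
  have : (gfam (k := k) 4) = (Matrix.detRowAlternating (n := Fin 4) (R := k)).compLinearMap ell := by
    simp [gfam]
  rw [this, AlternatingMap.compLinearMap_apply]
  change Matrix.det (Matrix.of _) = _
  congr 1
  ext i j
  fin_cases i <;> rfl

lemma det_block (α γ β δ α' γ' β' δ' : k) :
    Matrix.det (Matrix.of ![![α, γ, 0, 0], ![0, 0, α', γ'], ![β, δ, 0, 0], ![0, 0, β', δ']]) =
      -((α * δ - γ * β) * (α' * δ' - γ' * β')) := by
  rw [Matrix.det_succ_row_zero]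
  simp [Fin.sum_univ_succ, Matrix.det_fin_three, Fin.succAbove]
  ring

section

variable (P : Equiv.Perm (Fin 4) → ((Fin 2 → Fin 4 → Fin 4 → k) →ₗ[k] (Fin 2 → Fin 4 → Fin 4 → k)))
    (hP : ∀ (σ : Equiv.Perm (Fin 4)) (f : Fin 2 → Fin 4 → Fin 4 → k) (c : Fin 2) (a b : Fin 4),
      P σ f c a b = f c (σ.symm a) (σ.symm b))
    (z : Fin 2 → Fin 4 → Fin 4 → Fin 4 → (Fin 2 → Fin 4 → Fin 4 → k))
    (hz : ∀ (c : Fin 2) (i j l : Fin 4) (c' : Fin 2) (a b : Fin 4), z c i j l c' a b =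
      if c' = c then
        ((if a = i ∧ b = j then 1 else 0) + (if a = j ∧ b = l then 1 else 0) + (if a = l ∧ b = i then 1 else 0)
          - (if a = j ∧ b = i then 1 else 0) - (if a = l ∧ b = j then 1 else 0) - (if a = i ∧ b = l then 1 else 0))
      else 0)

include hz in
lemma ell_z0 (i j l : Fin 4) :
    ell (z 0 i j l) = ![((eZ i j l 1 2 : ℤ) : k), ((eZ i j l 2 3 : ℤ) : k), 0, 0] := by
  ext t
  fin_cases t
  · change z 0 i j l 0 1 2 = _
    rw [z_eq z hz]; simp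
  · change z 0 i j l 0 2 3 = _
    rw [z_eq z hz]; simp
  · change z 0 i j l 1 1 2 = _
    rw [z_eq z hz]; simp
  · change z 0 i j l 1 2 3 = _
    rw [z_eq z hz]; simp

include hz in
lemma ell_z1 (i j l : Fin 4) :
    ell (z 1 i j l) = ![0, 0, ((eZ i j l 1 2 : ℤ) : k), ((eZ i j l 2 3 : ℤ) : k)] := by
  ext t
  fin_cases t
  · change z 1 i j l 0 1 2 = _
    rw [z_eq z hz]; simp
  · change z 1 i j l 0 2 3 = _
    rw [z_eq z hz]; simp
  · change z 1 i j l 1 1 2 = _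
    rw [z_eq z hz]; simp
  · change z 1 i j l 1 2 3 = _
    rw [z_eq z hz]; simp

/-- the integer `n_σ`. -/
def nσ (σ : Equiv.Perm (Fin 4)) : ℤ :=
  eZ (σ 0) (σ 1) (σ 2) 1 2 * eZ (σ 0) (σ 2) (σ 3) 2 3
    - eZ (σ 0) (σ 1) (σ 2) 2 3 * eZ (σ 0) (σ 2) (σ 3) 1 2

include hP hz in
lemma Lam_term (σ : Equiv.Perm (Fin 4)) :
    Lam (ExteriorAlgebra.map (P σ) (ι k (z 0 0 1 2) * ι k (z 1 0 1 2) *
      ι k (z 0 0 2 3) * ι k (z 1 0 2 3))) = ((-(nσ σ) ^ 2 : ℤ) : k) := by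
  have hm : ExteriorAlgebra.map (P σ) (ι k (z 0 0 1 2) * ι k (z 1 0 1 2) *
      ι k (z 0 0 2 3) * ι k (z 1 0 2 3)) = ι k (P σ (z 0 0 1 2)) * ι k (P σ (z 1 0 1 2)) *
      ι k (P σ (z 0 0 2 3)) * ι k (P σ (z 1 0 2 3)) := by
    simp only [map_mul, map_apply_ι]
  rw [hm,
    P_z P hP z hz, P_z P hP z hz, P_z P hP z hz, P_z P hP z hz, Lam_four,
    ell_z0 z hz, ell_z1 z hz, ell_z0 z hz, ell_z1 z hz, det_block]
  simp only [nσ]
  push_cast
  ring

include hP hz in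
theorem sum_ne_zero [CharZero k] :
    (∑ σ : Equiv.Perm (Fin 4), ExteriorAlgebra.map (P σ) (ι k (z 0 0 1 2) * ι k (z 1 0 1 2) *
      ι k (z 0 0 2 3) * ι k (z 1 0 2 3))) ≠ 0 := by
  intro h
  have h1 := congrArg Lam h
  rw [map_sum, map_zero] at h1
  simp only [Lam_term P hP z hz] at h1
  rw [← Int.cast_sum] at h1
  have h2 : (∑ σ : Equiv.Perm (Fin 4), -(nσ σ) ^ 2 : ℤ) = 0 := by exact_mod_cast h1
  have h3 : (1 : ℤ) ≤ ∑ σ : Equiv.Perm (Fin 4), (nσ σ) ^ 2 := by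
    have h4 : (nσ (1 : Equiv.Perm (Fin 4))) ^ 2 = 1 := by
      simp [nσ, eZ]
    calc (1 : ℤ) = (nσ (1 : Equiv.Perm (Fin 4))) ^ 2 := h4.symm
      _ ≤ _ := Finset.single_le_sum (f := fun σ => (nσ σ) ^ 2)
        (fun σ _ => sq_nonneg _) (Finset.mem_univ _)
  rw [Finset.sum_neg_distrib] at h2
  omega

include hP hz in
theorem fix02 :
    ExteriorAlgebra.map (P (Equiv.swap 0 2)) (ι k (z 0 0 1 2) * ι k (z 1 0 1 2) *
      ι k (z 0 0 2 3) * ι k (z 1 0 2 3)) = ι k (z 0 0 1 2) * ι k (z 1 0 1 2) *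
      ι k (z 0 0 2 3) * ι k (z 1 0 2 3) := by
  rw [map_mul, map_mul, map_mul, map_apply_ι, map_apply_ι, map_apply_ι, map_apply_ι,
    P_z P hP z hz, P_z P hP z hz, P_z P hP z hz, P_z P hP z hz]
  have e1 : ∀ c, z c ((Equiv.swap (0 : Fin 4) 2) 0) ((Equiv.swap (0 : Fin 4) 2) 1)
      ((Equiv.swap (0 : Fin 4) 2) 2) = - z c 0 1 2 := by
    intro c
    have : z c ((Equiv.swap (0 : Fin 4) 2) 0) ((Equiv.swap (0 : Fin 4) 2) 1)
      ((Equiv.swap (0 : Fin 4) 2) 2) = z c 2 1 0 := by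
      congr 1
    rw [this, z_rev z hz]
  have e2 : ∀ c, z c ((Equiv.swap (0 : Fin 4) 2) 0) ((Equiv.swap (0 : Fin 4) 2) 2)
      ((Equiv.swap (0 : Fin 4) 2) 3) = - z c 0 2 3 := by
    intro c
    have : z c ((Equiv.swap (0 : Fin 4) 2) 0) ((Equiv.swap (0 : Fin 4) 2) 2)
      ((Equiv.swap (0 : Fin 4) 2) 3) = z c 2 0 3 := by
      congr 1
    rw [this, z_cyc z hz c 3 2 0, z_rev z hz c 0 2 3]
  rw [e1, e1, e2, e2]
  simp only [map_neg]
  noncomm_ring

include hP hz in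
theorem fix13 :
    ExteriorAlgebra.map (P (Equiv.swap 1 3)) (ι k (z 0 0 1 2) * ι k (z 1 0 1 2) *
      ι k (z 0 0 2 3) * ι k (z 1 0 2 3)) = ι k (z 0 0 1 2) * ι k (z 1 0 1 2) *
      ι k (z 0 0 2 3) * ι k (z 1 0 2 3) := by
  rw [map_mul, map_mul, map_mul, map_apply_ι, map_apply_ι, map_apply_ι, map_apply_ι,
    P_z P hP z hz, P_z P hP z hz, P_z P hP z hz, P_z P hP z hz]
  have e1 : ∀ c, z c ((Equiv.swap (1 : Fin 4) 3) 0) ((Equiv.swap (1 : Fin 4) 3) 1)
      ((Equiv.swap (1 : Fin 4) 3) 2) = - z c 0 2 3 := by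
    intro c
    have : z c ((Equiv.swap (1 : Fin 4) 3) 0) ((Equiv.swap (1 : Fin 4) 3) 1)
      ((Equiv.swap (1 : Fin 4) 3) 2) = z c 0 3 2 := by
      congr 1
    rw [this, z_rev z hz c 2 3 0, z_cyc z hz c 0 2 3]
  have e2 : ∀ c, z c ((Equiv.swap (1 : Fin 4) 3) 0) ((Equiv.swap (1 : Fin 4) 3) 2)
      ((Equiv.swap (1 : Fin 4) 3) 3) = - z c 0 1 2 := by
    intro c
    have : z c ((Equiv.swap (1 : Fin 4) 3) 0) ((Equiv.swap (1 : Fin 4) 3) 2)
      ((Equiv.swap (1 : Fin 4) 3) 3) = z c 0 2 1 := by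
      congr 1
    rw [this, z_rev z hz c 1 2 0, z_cyc z hz c 0 1 2]
  rw [e1, e1, e2, e2]
  simp only [map_neg]
  have := four_swap (k := k) (z 0 0 2 3) (z 1 0 2 3) (z 0 0 1 2) (z 1 0 1 2)
  calc -ι k (z 0 0 2 3) * -ι k (z 1 0 2 3) * -ι k (z 0 0 1 2) * -ι k (z 1 0 1 2)
      = ι k (z 0 0 2 3) * ι k (z 1 0 2 3) * ι k (z 0 0 1 2) * ι k (z 1 0 1 2) := by noncomm_ring
    _ = _ := this

end

end Groth.Agent.Lib.Helper6.K4Wedge
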